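import Cfsg.Agent.CITCor.ClsBeta
import Cfsg.Agent.GW.Tools
import Cfsg.Agent.Char.SqBase

/-!
Local lemmas for groups with few class sizes.
-/

set_option autoImplicit false

namespace Cfsg.Lib.Ito

open Subgroup Cfsg.Lib.Solv Cfsg.Lib.Solv.ClassSize Cfsg.Lib.Fus Cfsg.Lib.CITCor.Cls
open scoped commutatorElement Pointwise

universe u

local notation:max "𝐂[" x "]" => Subgroup.centralizer ({x} : Set _)

variable {G : Type u} [Group G] [Finite G]

/-- `P × Q` argument: a `p'`-element whose centralizer has a `p`-part at least as large as those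
of the elements of the normalized `p`-group `V` that it does not centralize. -/
theorem le_cent_of_fact {p : ℕ} (hp : p.Prime) {V : Subgroup G} [V.Normal] (hV : IsPGroup p V)
    {y : G} (hy : (orderOf y).Coprime p)
    (h : ∀ v ∈ V, v ∉ 𝐂[y] →
      (Nat.card 𝐂[v]).factorization p ≤ (Nat.card 𝐂[y]).factorization p) : V ≤ 𝐂[y] := by
  have := Fact.mk hp
  obtain ⟨T, hT⟩ := exists_sylIn p 𝐂[y]
  refine GW.pq_lemma hp hV hT.pgroup hy le_normalizer_of_normal
    (le_normalizer_of_normal (mem_top y : y ∈ (⊤ : Subgroup G))) hT.le ?_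
  intro v hv
  by_contra hvy
  have h1 : T ⊔ zpowers v ≤ 𝐂[v] := sup_le (le_cent_iff.2 hv.2) (zpowers_le_cent v)
  have h2 : IsPGroup p ↥(T ⊔ zpowers v) :=
    (IsPGroup.to_sup_of_normal_right hT.pgroup hV).to_le
      (sup_le_sup_left (zpowers_le.2 hv.1) T)
  obtain ⟨T', hT', hle⟩ := exists_sylIn_ge h1 h2
  have h3 : T < T' := lt_of_le_of_ne (le_sup_left.trans hle) fun he =>
    hvy (hT.le (he ▸ hle (mem_sup_right (mem_zpowers v))))
  have h4 := card_lt_card_of_lt h3
  rw [hT.card_eq, hT'.card_eq] at h4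
  exact absurd (h v hv.1 hvy) (not_le.2 ((Nat.pow_lt_pow_iff_right hp.one_lt).1 h4))

theorem isNilpotent_of_cent [Group.IsSolvable G]
    (h : ∀ (p r k : ℕ) (y : G), p.Prime → r.Prime → r ≠ p → orderOf y = r ^ k →
      pCore p G ≤ 𝐂[y]) : Group.IsNilpotent G := by
  have key : ∀ N : Subgroup G, N.Normal → ⁅N, N⁆ ≤ fittingSubgroup G →
      N ≤ fittingSubgroup G := by
    intro N hN hNN x hx
    by_contra hxF
    obtain ⟨r, k, y, hr, -, hy, hk, hyF⟩ := exists_primary_not_mem hxF
    have := Fact.mk hr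
    refine hyF (pCore_le_fitting r G (Char.Sq.mem_pCore_of_cent hNN (zpowers_le.2 hx hy)
      (isPGroup_zpowers_of_orderOf hk) fun t ht htr => ?_))
    exact le_cent_iff.1 (h t r k y ht hr htr.symm hk)
  obtain ⟨n, hn⟩ := (inferInstance : Group.IsSolvable G).solvable
  have h2 : ∀ j, derivedSeries G (n - j) ≤ fittingSubgroup G := by
    intro j
    induction j with
    | zero => rw [Nat.sub_zero, hn]; exact bot_le
    | succ j ih =>
      by_cases hj : n ≤ j
      · rwa [show n - (j + 1) = n - j by omega]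
      · refine key _ inferInstance ?_
        rwa [← derivedSeries_succ, show n - (j + 1) + 1 = n - j by omega]
  have h3 := h2 n
  rw [Nat.sub_self, derivedSeries_zero, top_le_iff] at h3
  exact fitting_eq_top_iff.1 h3

theorem card_cent_eq_of_index_eq {x y : G} (h : 𝐂[x].index = 𝐂[y].index) :
    Nat.card 𝐂[x] = Nat.card 𝐂[y] := by
  have h1 := 𝐂[x].card_mul_index
  rw [h, ← 𝐂[y].card_mul_index] at h1
  exact Nat.eq_of_mul_eq_mul_right (Nat.pos_of_ne_zero index_ne_zero_of_finite) h1

/-- A solvable group whose primary elements have at most two class sizes is nilpotent. -/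
theorem isNilpotent_of_primary [Group.IsSolvable G] {u : ℕ}
    (h : ∀ (r k : ℕ) (y : G), r.Prime → orderOf y = r ^ k → 𝐂[y].index = 1 ∨ 𝐂[y].index = u) :
    Group.IsNilpotent G := by
  refine isNilpotent_of_cent fun p r k y hp hr hrp hk => ?_
  have := Fact.mk hp
  rcases h r k y hr hk with h1 | h1
  · rw [index_eq_one.1 h1]
    exact le_top
  refine le_cent_of_fact hp (pCore_isPGroup p G) ?_ fun v hv hvy => ?_
  · rw [hk]
    exact Nat.Coprime.pow_left _ ((Nat.coprime_primes hr hp).2 hrp)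
  · obtain ⟨j, hj⟩ := exists_orderOf_eq_pow_of_mem (pCore_isPGroup p G) hv
    rcases h p j v hp hj with h2 | h2
    · exact absurd (center_le_cent y (index_cent_eq_one_iff.1 h2)) hvy
    · rw [card_cent_eq_of_index_eq (h2.trans h1.symm)]

/-- A `2`-group in which an element and its nontrivial square have the same centralizer is
abelian. -/
theorem comm_of_sq {T : Type u} [Group T] [Finite T] (hT : IsPGroup 2 T)
    (h : ∀ s : T, s ^ 2 ≠ 1 → 𝐂[s ^ 2] ≤ 𝐂[s]) : IsMulCommutative T := by
  by_contra hc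
  have hZ : ¬ (⊤ : Subgroup T) ≤ center T := fun hle =>
    hc ⟨⟨fun a b => (mem_center_iff.1 (hle (mem_top b)) a)⟩⟩
  obtain ⟨a, -, haZ, ha2, hac⟩ := PH.exists_second_center (G := T) (q := 2)
    (hT.to_subgroup ⊤) hZ
  have h1 : a ^ 2 = 1 := by
    by_contra h1
    have := h a h1
    rw [cent_eq_top_iff.2 ha2, top_le_iff, cent_eq_top_iff] at this
    exact haZ this
  have h2 : ∀ g : T, ¬ Commute g a → g ^ 2 = 1 := by
    intro g hg
    by_contra h2
    refine hg (mem_cent_iff_commute.1 (h g h2 (mem_cent_iff_commute.2 ?_))).symm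
    have hz := mem_center_iff.1 (hac g (mem_top g))
    have e1 : g * a * g⁻¹ = ⁅g, a⁆ * a := by rw [commutatorElement_def]; group
    have e2 : ⁅g, a⁆ * ⁅g, a⁆ = 1 := by
      have e3 : (⁅g, a⁆ * a) * (⁅g, a⁆ * a) = 1 := by
        rw [← e1]
        calc g * a * g⁻¹ * (g * a * g⁻¹) = g * a ^ 2 * g⁻¹ := by rw [pow_two]; group
          _ = 1 := by rw [h1]; group
      rw [← mul_assoc, mul_assoc _ a, hz a, ← mul_assoc, mul_assoc, ← pow_two a, h1,
        mul_one] at e3
      exact e3
    have e4 : g ^ 2 * a * (g ^ 2)⁻¹ = a := by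
      calc g ^ 2 * a * (g ^ 2)⁻¹ = g * (g * a * g⁻¹) * g⁻¹ := by rw [pow_two]; group
        _ = g * ⁅g, a⁆ * a * g⁻¹ := by rw [e1]; group
        _ = ⁅g, a⁆ * (g * a * g⁻¹) := by rw [hz g]; group
        _ = a := by rw [e1, ← mul_assoc, e2, one_mul]
    exact (mul_inv_eq_iff_eq_mul.1 e4).symm
  obtain ⟨g, hg⟩ : ∃ g, ¬ Commute g a := by
    by_contra h3
    push Not at h3
    exact haZ (mem_center_iff.2 fun g => (h3 g).eq)
  have h3 := h2 g hg
  have h4 := h2 (g * a) fun h5 => hg (by
    have := h5.mul_left (Commute.refl a).inv_left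
    simpa using this)
  apply hg
  have ha : a⁻¹ = a := inv_eq_of_mul_eq_one_right (by rw [← pow_two, h1])
  have hg' : g⁻¹ = g := inv_eq_of_mul_eq_one_right (by rw [← pow_two, h3])
  have h5 : (g * a)⁻¹ = g * a := inv_eq_of_mul_eq_one_right (by rw [← pow_two, h4])
  rw [mul_inv_rev, ha, hg'] at h5
  exact h5.symm

/-- If the `p'`-elements have `p`-power class sizes and centralize `O_p`, there is a normal
`p`-complement. -/
theorem hasNormalPComplement_of_cent {p : ℕ} [hp : Fact p.Prime]
    (h : ∀ x : G, (orderOf x).Coprime p → ∃ k, 𝐂[x].index = p ^ k)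
    (hc : ∀ x : G, (orderOf x).Coprime p → pCore p G ≤ 𝐂[x]) : HasNormalPComplement p G := by
  obtain ⟨A, -, hA, ⟨k, hk⟩, hN⟩ := exists_abelian_complement h
  have hco : ∀ a ∈ A, (orderOf a).Coprime p := fun a ha =>
    (((Nat.Prime.coprime_iff_not_dvd hp.out).2 hA).symm).coprime_dvd_left
      (orderOf_dvd_natCard A ha)
  have hAn : A.Normal := ⟨fun a ha g => by
    obtain ⟨w, hw, b, hb, he⟩ := (Coprime.mem_sup_iff le_normalizer_of_normal).1
      (hN.conj_mem a (mem_sup_right ha) g)
    obtain ⟨j, hj⟩ := exists_orderOf_eq_pow_of_mem (pCore_isPGroup p G) hw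
    have hcm : Commute w b := mem_cent_iff_commute.1 (hc b (hco b hb) hw)
    have h1 : (orderOf w).Coprime (orderOf b) := by
      rw [hj]
      exact (hco b hb).symm.pow_left _
    have h2 := orderOf_dvd_of_mem_zpowers (left_mem_zpowers_mul_of_coprime hcm h1)
    have h3 : orderOf (w * b) = orderOf a := by
      rw [he]
      exact (MulAut.conj g).orderOf_eq a
    rw [h3, hj] at h2
    have h4 : orderOf w = 1 := by
      rw [hj]
      exact Nat.Coprime.eq_one_of_dvd ((hco a ha).symm.pow_left _) h2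
    rw [← he, orderOf_eq_one_iff.1 h4, one_mul]
    exact hb⟩
  exact Trans.hasNormalPComplement_of_normal A
    ((Nat.Prime.coprime_iff_not_dvd hp.out).2 hA).symm (IsPGroup.of_card (n := k) hk)

/-- A number prime to `p` dividing `|C|` divides `|U|` if `U` contains the `p'`-elements. -/
theorem dvd_card_of_forall_mem {p : ℕ} (hp : p.Prime) {C U : Subgroup G}
    (h : ∀ y ∈ C, (orderOf y).Coprime p → y ∈ U) {n : ℕ} (hn : n.Coprime p)
    (hd : n ∣ Nat.card C) : n ∣ Nat.card U := by
  have h1 : n.Coprime (U.relIndex C) := by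
    refine Nat.coprime_of_dvd fun r hr hrn hri => ?_
    have hrp : r ≠ p := by
      rintro rfl
      exact hr.one_lt.ne' (Nat.Coprime.eq_one_of_dvd hn.symm hrn)
    refine not_dvd_index_of_forall_mem (G := C) (K := U.subgroupOf C) hr
      (fun x k hk => ?_) hri
    refine h x x.2 ?_
    rw [Subgroup.orderOf_coe, hk]
    exact Nat.Coprime.pow_left _ ((Nat.coprime_primes hr hp).2 hrp)
  rw [← (U.subgroupOf C).card_mul_index] at hd
  refine (h1.dvd_of_dvd_mul_right hd).trans ?_
  rw [← card_map_of_injective C.subtype_injective, subgroupOf_map_subtype]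
  exact card_dvd_of_le inf_le_left

end Cfsg.Lib.Ito
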