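import Cfsg.Agent.Ito.Basic
import Cfsg.Agent.Ito.Chr

/-!
A simple group is not the product of an element centralizer and an isolated nilpotent Hall
subgroup of composite type.
-/

set_option autoImplicit false

namespace Cfsg.Lib.Ito

open Subgroup Cfsg.Lib.Solv Cfsg.Lib.Solv.ClassSize Cfsg.Lib.Fus Cfsg.Lib.CITCor.Cls
open scoped commutatorElement Pointwise

universe u

local notation:max "𝐂[" x "]" => Subgroup.centralizer ({x} : Set _)

variable {G : Type u} [Group G] [Finite G]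

omit [Finite G] in
theorem conj_mem_cent_iff {a x g : G} : a ∈ 𝐂[g * x * g⁻¹] ↔ g⁻¹ * a * g ∈ 𝐂[x] := by
  rw [mem_cent, mem_cent]
  constructor
  · intro h
    calc g⁻¹ * a * g * x = g⁻¹ * (a * (g * x * g⁻¹)) * g := by group
      _ = _ := by rw [h]; group
  · intro h
    calc a * (g * x * g⁻¹) = g * (g⁻¹ * a * g * x) * g⁻¹ := by group
      _ = _ := by rw [h]; group

theorem not_malnormal [IsSimpleGroup G] {K : Subgroup G} (h1 : K ≠ ⊥) (h2 : K ≠ ⊤)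
    (h : ∀ g, g ∉ K → ∀ x ∈ K, g * x * g⁻¹ ∈ K → x = 1) : False := by
  obtain ⟨M, hM, h3, h4, -⟩ := Char.frobenius_wielandt K ⊥ bot_le
    (fun h _ n hn => by rw [mem_bot.1 hn]; simp) fun g hg x hx hx' => mem_bot.2 (h g hg x hx hx')
  rcases hM.eq_bot_or_eq_top with rfl | rfl
  · exact h2 (by simpa using h4)
  · exact h1 (by simpa using h3)

section Latin

variable [IsSimpleGroup G] (hG : ¬ IsMulCommutative G) {x : G} (hx : x ≠ 1)
  (h2 : ∀ α β γ : G, IsConj x α → IsConj x β → IsConj x γ → β ≠ α → γ ≠ α →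
    ∃ k ∈ 𝐂[α], k * β * k⁻¹ = γ)
include hG hx h2

omit [Finite G] in
theorem not_commute {α β : G} (hα : IsConj x α) (hβ : IsConj x β) (hne : β ≠ α) :
    β ∉ 𝐂[α] := fun hc => by
  have hα1 : α ≠ 1 := fun h => hx (isConj_one_left.1 (h ▸ hα))
  have h3 : normalClosure ({α} : Set G) ≤ 𝐂[α] := by
    refine (closure_le _).2 fun γ hγ => ?_
    obtain ⟨a, ha, hγ⟩ := Group.mem_conjugatesOfSet_iff.1 hγ
    rw [Set.mem_singleton_iff.1 ha] at hγ
    by_cases he : γ = α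
    · exact he ▸ self_mem_cent α
    · obtain ⟨k, hk, rfl⟩ := h2 α β γ hα hβ (hα.trans hγ) hne he
      exact mul_mem (mul_mem hk hc) (inv_mem hk)
  rcases (normalClosure_normal (s := ({α} : Set G))).eq_bot_or_eq_top with h4 | h4
  · exact hα1 (mem_bot.1 (h4 ▸ subset_normalClosure (Set.mem_singleton α)))
  · rw [h4, top_le_iff, cent_eq_top_iff, CITCor.center_eq_bot_of_simple hG, mem_bot] at h3
    exact hα1 h3

theorem latin {α β γ : G} (hα : IsConj x α) (hβ : IsConj x β) (hγ : IsConj x γ)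
    (h : α * γ * α⁻¹ = β * γ * β⁻¹) : α = β := by
  let f : {y // IsConj x y} → {y // IsConj x y} := fun δ =>
    ⟨δ * γ * (δ : G)⁻¹, hγ.trans (isConj_iff.2 ⟨δ, rfl⟩)⟩
  have hf : Function.Surjective f := by
    rintro ⟨ε, hε⟩
    by_cases he : ε = γ
    · exact ⟨⟨γ, hγ⟩, Subtype.ext (by simp [f, he])⟩
    have h3 : ε * γ * ε⁻¹ ≠ γ := fun h4 =>
      not_commute hG hx h2 hγ hε he (mem_cent_iff_conj.2 h4)
    obtain ⟨k, hk, h4⟩ := h2 γ _ ε hγ (hγ.trans (isConj_iff.2 ⟨ε, rfl⟩)) hε h3 he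
    refine ⟨⟨k * ε * k⁻¹, hε.trans (isConj_iff.2 ⟨k, rfl⟩)⟩, Subtype.ext ?_⟩
    have h5 : k⁻¹ * γ * k = γ := by simpa using mem_cent_iff_conj.1 (inv_mem hk)
    calc k * ε * k⁻¹ * γ * (k * ε * k⁻¹)⁻¹ = k * (ε * (k⁻¹ * γ * k) * ε⁻¹) * k⁻¹ := by group
      _ = ε := by rw [h5, h4]
  exact congrArg Subtype.val (Finite.injective_iff_surjective.2 hf (a₁ := ⟨α, hα⟩)
    (a₂ := ⟨β, hβ⟩) (Subtype.ext h))

theorem le_cent_of_norm {p : ℕ} (hp : p.Prime) (hd : ¬ p ∣ 𝐂[x].index) {P : Subgroup G}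
    (hP : IsPGroup p P) {α : G} (hα : IsConj x α) (hn : α ∈ normalizer (P : Set G)) :
    P ≤ 𝐂[α] := fun u hu => by
  have := Fact.mk hp
  have h3 : α * (u * α * u⁻¹)⁻¹ ∈ P := by
    have := mul_mem (conj_mem_of_mem_normalizer hn hu) (inv_mem hu)
    convert this using 1
    group
  obtain ⟨k, hk⟩ := exists_orderOf_eq_pow_of_mem hP h3
  obtain ⟨g, hg⟩ := exists_conj_mem_of_not_dvd hp hd hk
  have hβ : IsConj x (u * α * u⁻¹) := hα.trans (isConj_iff.2 ⟨u, rfl⟩)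
  have hδ : IsConj x (g⁻¹ * x * g⁻¹⁻¹) := isConj_iff.2 ⟨g⁻¹, rfl⟩
  have h4 : α * (u * α * u⁻¹)⁻¹ ∈ 𝐂[g⁻¹ * x * g⁻¹⁻¹] := conj_mem_cent_iff.2 (by simpa using hg)
  generalize g⁻¹ * x * g⁻¹⁻¹ = δ at hδ h4
  generalize hb : u * α * u⁻¹ = β at hβ h4
  have h5 := latin hG hx h2 hα hβ (γ := β⁻¹ * δ * β⁻¹⁻¹) (hδ.trans (isConj_iff.2 ⟨β⁻¹, rfl⟩)) (by
    calc α * (β⁻¹ * δ * β⁻¹⁻¹) * α⁻¹ = α * β⁻¹ * δ * (α * β⁻¹)⁻¹ := by group
      _ = δ := mem_cent_iff_conj.1 h4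
      _ = _ := by group)
  exact mem_cent_iff_conj.2 (hb.trans h5.symm)

theorem false_of_latin {r : ℕ} (hr : r.Prime) (hxr : orderOf x = r)
    (hA : ∀ j ∈ 𝐂[x], j ≠ 1 → ∀ p : ℕ, p.Prime → p ∣ Nat.card 𝐂[j] → ¬ p ∣ 𝐂[x].index) :
    False := by
  have hK : 𝐂[x] ≠ ⊤ := fun h => hx (by
    rwa [cent_eq_top_iff, CITCor.center_eq_bot_of_simple hG, mem_bot] at h)
  obtain ⟨g₀, -, hg₀⟩ := SetLike.exists_of_lt (lt_top_iff_ne_top.2 hK)
  have hc : ∀ g : G, IsConj x (g * x * g⁻¹) := fun g => isConj_iff.2 ⟨g, rfl⟩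
  have hne : ∀ g, g ∉ 𝐂[x] → g * x * g⁻¹ ≠ x := fun g hg h => hg (mem_cent_iff_conj.2 h)
  set β := g₀ * x * g₀⁻¹ with hβ
  set J := 𝐂[x] ⊓ 𝐂[β] with hJ
  have hcard : ∀ g, g ∉ 𝐂[x] → Nat.card ↥(𝐂[x] ⊓ 𝐂[g * x * g⁻¹]) = Nat.card J := fun g hg => by
    obtain ⟨k, hk, he⟩ := h2 x β _ (IsConj.refl x) (hc g₀) (hc g) (hne g₀ hg₀) (hne g hg)
    rw [← he, ← conj_smul_centralizer_singleton, hJ]
    conv_lhs => rw [← mem_cent_iff_conj.1 hk, ← conj_smul_centralizer_singleton, ← smul_inf]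
    exact card_conj_smul _ _
  by_cases hJ1 : J = ⊥
  · refine not_malnormal (fun h => hx (mem_bot.1 (h ▸ self_mem_cent x))) hK fun g hg y hy hy' => ?_
    have h3 := hcard g⁻¹ (fun h => hg (by simpa using h))
    rw [hJ1, card_bot, card_eq_one] at h3
    exact mem_bot.1 (h3 ▸ (⟨hy, conj_mem_cent_iff.2 (by simpa using hy')⟩ :
      y ∈ 𝐂[x] ⊓ 𝐂[g⁻¹ * x * g⁻¹⁻¹]))
  obtain ⟨⟨j, hj⟩, hj1⟩ := ne_bot_iff_exists_ne_one.1 hJ1
  have hj1' : j ≠ 1 := fun h => hj1 (Subtype.ext h)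
  set Y := centralizer (J : Set G) with hY
  have hYj : Y ≤ 𝐂[j] := centralizer_le (Set.singleton_subset_iff.2 hj)
  have hπ : ∀ p : ℕ, p.Prime → p ∣ Nat.card Y → ¬ p ∣ 𝐂[x].index := fun p hp hd =>
    hA j hj.1 hj1' p hp (hd.trans (card_dvd_of_le hYj))
  have hxY : x ∈ Y := le_cent_iff.1 inf_le_left
  have hβY : β ∈ Y := le_cent_iff.1 inf_le_right
  have hZ : ∀ g : Y, ∀ n ∈ J.subgroupOf Y, g * n * g⁻¹ = n := fun g n hn => by
    rw [mul_inv_eq_iff_eq_mul]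
    exact Subtype.ext (g.2 n hn).symm
  obtain ⟨M, hM, h3, h4, h5, h6⟩ := Char.frobenius_wielandt (G := Y) (𝐂[x].subgroupOf Y)
    (J.subgroupOf Y) (subgroupOf_mono Y inf_le_left)
    (fun h _ n hn => by rwa [hZ h n hn]) (fun g hg y hy hy' => by
      have hg' : (g : G)⁻¹ ∉ 𝐂[x] := fun h => hg (by simpa [mem_subgroupOf] using h)
      have h7 : J ≤ 𝐂[x] ⊓ 𝐂[(g : G)⁻¹ * x * (g : G)⁻¹⁻¹] :=
        le_inf inf_le_left (le_cent_iff.2 (mul_mem (mul_mem (inv_mem g.2) hxY)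
          (inv_mem (inv_mem g.2))))
      rw [mem_subgroupOf, eq_of_le_of_card_ge h7 (hcard _ hg').le]
      exact ⟨hy, conj_mem_cent_iff.2 (by simpa [mem_subgroupOf] using hy')⟩)
  let x' : Y := ⟨x, hxY⟩
  have hr1 : ¬ r ∣ (𝐂[x].subgroupOf Y).index := by
    have := Fact.mk hr
    obtain ⟨R, hR, hxR⟩ := exists_sylIn_ge (zpowers_le.2 hxY)
      (isPGroup_zpowers_of_orderOf (k := 1) (hxr.trans (pow_one r).symm))
    have h7 := le_cent_of_norm hG hx h2 hr (hπ r hr (hxr ▸ orderOf_dvd_natCard Y hxY)) hR.pgroup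
      (IsConj.refl x) (le_normalizer (hxR (mem_zpowers x)))
    exact fun hd => hR.not_dvd_relIndex (hd.trans (relIndex_dvd_of_le_left Y h7))
  have hi : (𝐂[x].subgroupOf Y).index = (J.subgroupOf Y).relIndex M := by
    rw [← h3, inf_relIndex_left]
    exact index_eq_relIndex_of_sup_eq_top (by rwa [sup_comm])
  have hi1 : (𝐂[x].subgroupOf Y).index ≠ 1 := fun h => by
    have h7 : (⟨β, hβY⟩ : Y) ∈ 𝐂[x].subgroupOf Y := index_eq_one.1 h ▸ mem_top _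
    exact not_commute hG hx h2 (IsConj.refl x) (hc g₀) (hne g₀ hg₀) h7
  obtain ⟨p, hp, hd⟩ := Nat.exists_prime_and_dvd hi1
  have := Fact.mk hp
  obtain ⟨P, hP⟩ := exists_sylIn p M
  have hNM : normalizer (P : Set Y) ⊔ M = ⊤ := by
    refine eq_top_iff.2 fun g _ => ?_
    obtain ⟨n, hn, h7⟩ := hP.frattini (g := g) (le_normalizer_of_normal (mem_top g))
    have := mul_mem (mem_sup_right (S := normalizer (P : Set Y)) (inv_mem hn)) (mem_sup_left h7)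
    simpa using this
  have hr2 : ¬ r ∣ (normalizer (P : Set Y)).index := fun h => hr1 (by
    rw [index_eq_relIndex_of_sup_eq_top hNM] at h
    rw [hi]
    refine h.trans (relIndex_dvd_of_le_left M fun n hn => center_le_normalizer _ ?_)
    exact mem_center_iff.2 fun g => mul_inv_eq_iff_eq_mul.1 (hZ g n hn))
  obtain ⟨g, hg⟩ := exists_conj_mem_of_not_dvd (x := (⟨x, hxY⟩ : Y)) (k := 1) hr hr2
    (by rw [← Subgroup.orderOf_coe, pow_one]; exact hxr)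
  have h7 := le_cent_of_norm hG hx h2 hp (hπ p hp (hd.trans (index_dvd_card _)))
    (hP.pgroup.map Y.subtype) (hc g) (le_normalizer_map Y.subtype ⟨_, hg, rfl⟩)
  refine hP.not_dvd_relIndex (hd.trans (hi ▸ relIndex_dvd_of_le_left M fun u hu => ?_))
  have h8 := (h6 u).1 (hP.le hu) g⁻¹ (by
    simpa [mem_subgroupOf] using conj_mem_cent_iff.1 (h7 ⟨u, hu, rfl⟩))
  have h9 := hZ g _ h8
  rw [show g * (g⁻¹ * u * g⁻¹⁻¹) * g⁻¹ = u by group] at h9
  exact h9 ▸ h8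

end Latin

theorem false_of_regular [IsSimpleGroup G] (hG : ¬ IsMulCommutative G) {x : G} {r : ℕ}
    (hr : r.Prime) (hxr : orderOf x = r) {H : Subgroup G} (hnil : Group.IsNilpotent H)
    (hnp : ∀ p : ℕ, p.Prime → ¬ IsPGroup p H) (hiso : ∀ w ∈ H, w ≠ 1 → 𝐂[w] ≤ H)
    (hcard : Nat.card H = 𝐂[x].index) (hco : (Nat.card H).Coprime (Nat.card 𝐂[x])) : False := by
  have hx := ne_one_of_orderOf_prime hr hxr
  have hH1 : H ≠ ⊥ := fun h => hnp 2 Nat.prime_two (h ▸ IsPGroup.of_bot)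
  have hone : ∀ w ∈ H, ∀ g : G, g * w * g⁻¹ ∈ 𝐂[x] → w = 1 := fun w hw g h => by
    have h1 := orderOf_dvd_natCard _ h
    rw [show orderOf (g * w * g⁻¹) = orderOf w from (MulAut.conj g).orderOf_eq w] at h1
    exact orderOf_eq_one_iff.1 (Nat.eq_one_of_dvd_coprimes hco (orderOf_dvd_natCard _ hw) h1)
  have hHt : H ≠ ⊤ := fun h => hx (hone x (h ▸ mem_top x) 1 (by simpa using self_mem_cent x))
  obtain ⟨z, hz, hz1, hzc⟩ : ∃ z ∈ H, z ≠ 1 ∧ H ≤ 𝐂[z] := by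
    have := (nontrivial_iff_ne_bot H).2 hH1
    obtain ⟨⟨z, hz⟩, hz1⟩ := ne_bot_iff_exists_ne_one.1 (Group.IsNilpotent.center_ne_bot H)
    exact ⟨z, z.2, fun h => hz1 (Subtype.ext (Subtype.ext h)), fun w hw =>
      mem_cent.2 (congrArg Subtype.val (mem_center_iff.1 hz ⟨w, hw⟩))⟩
  have hti : ∀ g : G, ∀ w ∈ H, w ≠ 1 → g * w * g⁻¹ ∈ H → g ∈ normalizer (H : Set G) := by
    intro g w hw hw1 hg
    have h1 : g * z * g⁻¹ ∈ H := hiso _ hg (Beta.conj_ne_one hw1) (conj_mem_cent_iff.2 (by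
      simpa [mul_assoc] using mem_cent_comm.1 (hzc hw)))
    refine mem_normalizer_of_conj_mem fun y hy => hiso _ h1 (Beta.conj_ne_one hz1) ?_
    exact conj_mem_cent_iff.2 (by simpa [mul_assoc] using hzc hy)
  have hlt : H < normalizer (H : Set G) := lt_of_le_of_ne le_normalizer fun h =>
    not_malnormal hH1 hHt fun g hg w hw hw' => by
      by_contra hw1
      exact hg (h ▸ hti g w hw hw1 hw')
  have h2t := two_trans_of_regular (FT.isFrobKer_norm hH1 hlt hiso) hnil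
    ⟨⟨z, hz, hz1⟩, le_top, fun g hg a ha => ⟨conj_mem_of_mem_normalizer hg ha.1, Beta.conj_ne_one ha.2⟩,
      fun g _ a ha h => hti g a ha.1 ha.2 h.1⟩ hnp (G ⧸ 𝐂[x]) hcard.symm (fun w hw hw1 a h => by
      obtain ⟨g, rfl⟩ := QuotientGroup.mk_surjective a
      rw [MulAction.Quotient.smul_mk, smul_eq_mul, eq_comm, QuotientGroup.eq] at h
      exact hw1 (hone w hw g⁻¹ (by simpa [mul_assoc] using h)))
  have hq : ∀ a b : G, (a : G ⧸ 𝐂[x]) = b ↔ a * x * a⁻¹ = b * x * b⁻¹ := fun a b => by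
    rw [QuotientGroup.eq, mem_cent_iff_conj]
    constructor
    · intro h
      conv_lhs => rw [← h]
      group
    · intro h
      calc a⁻¹ * b * x * (a⁻¹ * b)⁻¹ = a⁻¹ * (b * x * b⁻¹) * a := by group
        _ = x := by rw [← h]; group
  refine false_of_latin hG hx (fun α β γ hα hβ hγ h1 h2 => ?_) hr hxr fun j hj hj1 p hp hd hi => ?_
  · obtain ⟨a, rfl⟩ := isConj_iff.1 hα
    obtain ⟨b, rfl⟩ := isConj_iff.1 hβ
    obtain ⟨c, rfl⟩ := isConj_iff.1 hγ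
    obtain ⟨k, h3, h4⟩ := MulAction.is_two_pretransitive_iff.1 h2t
      (fun h => h1 ((hq a b).1 h).symm) (fun h => h2 ((hq a c).1 h).symm)
    rw [MulAction.Quotient.smul_mk, smul_eq_mul, hq] at h3 h4
    refine ⟨k, mem_cent_iff_conj.2 ?_, ?_⟩
    · conv_rhs => rw [← h3]
      group
    · rw [← h4]
      group
  · have := Fact.mk hp
    obtain ⟨u, hu⟩ := exists_prime_orderOf_dvd_card' p hd
    have hpi : ¬ p ∣ H.index := fun h => by
      have h1 := H.card_mul_index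
      rw [← 𝐂[x].card_mul_index, hcard, mul_comm] at h1
      rw [Nat.eq_of_mul_eq_mul_right (Nat.pos_of_ne_zero index_ne_zero_of_finite) h1] at h
      exact hp.one_lt.ne' (Nat.eq_one_of_dvd_coprimes hco (hcard ▸ hi) h)
    rw [← Subgroup.orderOf_coe] at hu
    obtain ⟨g, hg⟩ := exists_conj_mem_of_not_dvd (k := 1) hp hpi (hu.trans (pow_one p).symm)
    have h1 : g * j * g⁻¹ ∈ H := hiso _ hg (Beta.conj_ne_one (ne_one_of_orderOf_prime hp hu))
      (conj_mem_cent_iff.2 (by simpa [mul_assoc] using mem_cent_comm.1 u.2))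
    exact Beta.conj_ne_one hj1 (hone _ h1 g⁻¹ (by simpa [mul_assoc] using hj))

end Cfsg.Lib.Ito
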